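import Groth.Agent.Lib.SpreadLfp9.Basic
import Mathlib.AlgebraicGeometry.Birational.Birational

/-!
# Birational schemes from isomorphic generic local rings
-/

set_option autoImplicit false
set_option backward.isDefEq.respectTransparency false

universe u

open CategoryTheory AlgebraicGeometry

namespace GrothLib.SpreadLfp9

variable {X Y S : Scheme.{u}}

theorem specMap_eqToHom_fromSpecStalk {s t : S} (h : S.presheaf.stalk s = S.presheaf.stalk t)
    (hst : s = t) : Spec.map (eqToHom h) ≫ S.fromSpecStalk s = S.fromSpecStalk t := by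
  subst hst
  simp

/-- Compatibility of a map of local rings with the base, in terms of morphisms of schemes. -/
theorem stalk_compat_iff (sX : X ⟶ S) (sY : Y ⟶ S) {x : X} {y : Y} (hs : sX x = sY y)
    (e : X.presheaf.stalk x ⟶ Y.presheaf.stalk y) :
    sX.stalkMap x ≫ e = eqToHom (congrArg S.presheaf.stalk hs) ≫ sY.stalkMap y ↔
      Spec.map e ≫ X.fromSpecStalk x ≫ sX = Y.fromSpecStalk y ≫ sY := by
  rw [← Scheme.SpecMap_stalkMap_fromSpecStalk, ← Spec.map_comp_assoc]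
  have h2 : Y.fromSpecStalk y ≫ sY = Spec.map (eqToHom (congrArg S.presheaf.stalk hs) ≫
      sY.stalkMap y) ≫ S.fromSpecStalk (sX x) := by
    rw [Spec.map_comp_assoc, specMap_eqToHom_fromSpecStalk _ hs,
      Scheme.SpecMap_stalkMap_fromSpecStalk]
  rw [h2, cancel_mono]
  exact ⟨fun h ↦ h ▸ rfl, fun h ↦ Spec.map_injective h⟩

theorem fromSpecStalkOfMem_homOfLE {U W : X.Opens} (h : W ≤ U) {x : X} (hx : x ∈ W) :
    W.fromSpecStalkOfMem x hx ≫ X.homOfLE h = U.fromSpecStalkOfMem x (h hx) := by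
  rw [← cancel_mono U.ι]
  simp

theorem exists_shrink (sX : X ⟶ S) (sY : Y ⟶ S) [LocallyOfFiniteType sX]
    {U : X.Opens} {V : Y.Opens} {x : X} {y : Y} (hx : x ∈ U) (hy : y ∈ V)
    (e : X.presheaf.stalk x ≅ Y.presheaf.stalk y) (f : U.toScheme ⟶ Y) (g : V.toScheme ⟶ X)
    (hf : U.fromSpecStalkOfMem x hx ≫ f = Spec.map e.inv ≫ Y.fromSpecStalk y)
    (hg : V.fromSpecStalkOfMem y hy ≫ g = Spec.map e.hom ≫ X.fromSpecStalk x)
    (hfS : f ≫ sY = U.ι ≫ sX) (hgS : g ≫ sX = V.ι ≫ sY) :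
    ∃ (W : X.Opens) (hWU : W ≤ U) (f' : W.toScheme ⟶ V),
      x ∈ W ∧ f' ≫ V.ι = X.homOfLE hWU ≫ f ∧ f' ≫ g = W.ι := by
  have hfx : f ⟨x, hx⟩ = y := by
    have h1 := congr($hf (IsLocalRing.closedPoint _))
    have h2 : U.fromSpecStalkOfMem x hx (IsLocalRing.closedPoint _) = ⟨x, hx⟩ := by
      apply U.ι.isOpenEmbedding.injective
      rw [← Scheme.Hom.comp_apply, Scheme.Opens.fromSpecStalkOfMem_ι,
        Scheme.fromSpecStalk_closedPoint]
      rfl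
    rw [Scheme.Hom.comp_apply, h2, Scheme.Hom.comp_apply] at h1
    rw [h1, show Spec.map e.inv (IsLocalRing.closedPoint _) = IsLocalRing.closedPoint _ from
      IsLocalRing.comap_closedPoint _, Scheme.fromSpecStalk_closedPoint]
  let W₀ : X.Opens := U.ι ''ᵁ (f ⁻¹ᵁ V)
  have hW₀ : W₀ ≤ U := U.ι_image_le _
  have hx₀ : x ∈ W₀ := ⟨⟨x, hx⟩, show f ⟨x, hx⟩ ∈ V from hfx ▸ hy, rfl⟩
  have hr : Set.range (X.homOfLE hW₀ ≫ f) ⊆ Set.range V.ι := by
    rw [Scheme.Opens.range_ι]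
    rintro _ ⟨p, rfl⟩
    obtain ⟨q, hq, hqp⟩ := p.2
    have : X.homOfLE hW₀ p = q := by
      apply U.ι.isOpenEmbedding.injective
      rw [← Scheme.Hom.comp_apply, Scheme.homOfLE_ι]
      exact hqp.symm
    rw [Scheme.Hom.comp_apply, this]
    exact hq
  let f₀ := IsOpenImmersion.lift V.ι (X.homOfLE hW₀ ≫ f) hr
  have hf₀ : f₀ ≫ V.ι = X.homOfLE hW₀ ≫ f := IsOpenImmersion.lift_fac _ _ _
  have key : W₀.fromSpecStalkOfMem x hx₀ ≫ f₀ = Spec.map e.inv ≫ V.fromSpecStalkOfMem y hy := by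
    rw [← cancel_mono V.ι, Category.assoc, hf₀, ← Category.assoc,
      fromSpecStalkOfMem_homOfLE hW₀ hx₀, hf, Category.assoc, Scheme.Opens.fromSpecStalkOfMem_ι]
  have hS : (f₀ ≫ g) ≫ sX = W₀.ι ≫ sX := by
    rw [Category.assoc, hgS, ← Category.assoc, hf₀, Category.assoc, hfS, ← Category.assoc,
      Scheme.homOfLE_ι]
  have hE : W₀.toScheme.fromSpecStalk ⟨x, hx₀⟩ ≫ f₀ ≫ g =
      W₀.toScheme.fromSpecStalk ⟨x, hx₀⟩ ≫ W₀.ι := by
    have h1 : W₀.fromSpecStalkOfMem x hx₀ ≫ f₀ ≫ g = W₀.fromSpecStalkOfMem x hx₀ ≫ W₀.ι := by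
      rw [← Category.assoc, key, Category.assoc, hg, ← Spec.map_comp_assoc, Iso.hom_inv_id,
        Spec.map_id, Category.id_comp, Scheme.Opens.fromSpecStalkOfMem_ι]
    rw [Scheme.Opens.fromSpecStalkOfMem, Category.assoc, Category.assoc] at h1
    exact Epi.left_cancellation (f := Spec.map (inv (W₀.ι.stalkMap ⟨x, hx₀⟩))) _ _ h1
  obtain ⟨O, hxO, hO⟩ := spread_out_unique sX (f₀ ≫ g) W₀.ι hS hE
  refine ⟨W₀.ι ''ᵁ O, (W₀.ι_image_le _).trans hW₀, X.homOfLE (W₀.ι_image_le _) ≫ f₀,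
    ⟨⟨x, hx₀⟩, hxO, rfl⟩, ?_, ?_⟩
  · rw [Category.assoc, hf₀, Scheme.homOfLE_homOfLE_assoc]
  · have hiso : (W₀.ι.isoImage O).inv ≫ O.ι = X.homOfLE (W₀.ι_image_le O) := by
      rw [← cancel_mono W₀.ι, Category.assoc, Scheme.Hom.isoImage_inv_ι, Scheme.homOfLE_ι]
    rw [← hiso, Category.assoc, Category.assoc, hO, Scheme.Hom.isoImage_inv_ι]

/-- Mutually inverse germs of morphisms at generic points give birationality. -/
theorem birationalOver_of_spread [IrreducibleSpace X] [IrreducibleSpace Y] (sX : X ⟶ S)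
    (sY : Y ⟶ S) [LocallyOfFiniteType sX] [LocallyOfFiniteType sY]
    {U : X.Opens} {V : Y.Opens} {x : X} {y : Y} (hx : x ∈ U) (hy : y ∈ V)
    (e : X.presheaf.stalk x ≅ Y.presheaf.stalk y) (f : U.toScheme ⟶ Y) (g : V.toScheme ⟶ X)
    (hf : U.fromSpecStalkOfMem x hx ≫ f = Spec.map e.inv ≫ Y.fromSpecStalk y)
    (hg : V.fromSpecStalkOfMem y hy ≫ g = Spec.map e.hom ≫ X.fromSpecStalk x)
    (hfS : f ≫ sY = U.ι ≫ sX) (hgS : g ≫ sX = V.ι ≫ sY) :
    Scheme.BirationalOver sX sY := by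
  obtain ⟨W, hWU, f', hxW, hf', hfg⟩ := exists_shrink sX sY hx hy e f g hf hg hfS hgS
  obtain ⟨W', hWV, g', hyW, hg', hgf⟩ := exists_shrink sY sX hy hx e.symm g f hg hf hgS hfS
  let U₁ : X.Opens := W.ι ''ᵁ ((f' ≫ V.ι) ⁻¹ᵁ W')
  let V₁ : Y.Opens := W'.ι ''ᵁ ((g' ≫ U.ι) ⁻¹ᵁ W)
  have hU₁ : U₁ ≤ W := W.ι_image_le _
  have hV₁ : V₁ ≤ W' := W'.ι_image_le _
  have hfU : ∀ p : U₁, (X.homOfLE hU₁ ≫ f' ≫ V.ι) p ∈ W' := by
    intro p
    obtain ⟨q, hq, hqp⟩ := p.2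
    have : X.homOfLE hU₁ p = q := by
      apply W.ι.isOpenEmbedding.injective
      rw [← Scheme.Hom.comp_apply, Scheme.homOfLE_ι]
      exact hqp.symm
    rw [Scheme.Hom.comp_apply, this]
    exact hq
  have hgV : ∀ p : V₁, (Y.homOfLE hV₁ ≫ g' ≫ U.ι) p ∈ W := by
    intro p
    obtain ⟨q, hq, hqp⟩ := p.2
    have : Y.homOfLE hV₁ p = q := by
      apply W'.ι.isOpenEmbedding.injective
      rw [← Scheme.Hom.comp_apply, Scheme.homOfLE_ι]
      exact hqp.symm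
    rw [Scheme.Hom.comp_apply, this]
    exact hq
  have back : ∀ (p : W) (q : W'), (f' ≫ V.ι) p = q.1 → (g' ≫ U.ι) q = p.1 := by
    intro p q h
    rw [hg', Scheme.Hom.comp_apply]
    have h1 : Y.homOfLE hWV q = f' p := by
      apply V.ι.isOpenEmbedding.injective
      rw [← Scheme.Hom.comp_apply, Scheme.homOfLE_ι]
      exact h.symm
    rw [h1, ← Scheme.Hom.comp_apply, hfg]
    rfl
  have back' : ∀ (q : W') (p : W), (g' ≫ U.ι) q = p.1 → (f' ≫ V.ι) p = q.1 := by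
    intro q p h
    rw [hf', Scheme.Hom.comp_apply]
    have h1 : X.homOfLE hWU p = g' q := by
      apply U.ι.isOpenEmbedding.injective
      rw [← Scheme.Hom.comp_apply, Scheme.homOfLE_ι]
      exact h.symm
    rw [h1, ← Scheme.Hom.comp_apply, hgf]
    rfl
  have r1 : Set.range (X.homOfLE hU₁ ≫ f' ≫ V.ι) ⊆ Set.range V₁.ι := by
    rw [Scheme.Opens.range_ι]
    rintro _ ⟨p, rfl⟩
    refine ⟨⟨_, hfU p⟩, ?_, rfl⟩
    change (g' ≫ U.ι) ⟨_, hfU p⟩ ∈ W
    rw [back (X.homOfLE hU₁ p) ⟨_, hfU p⟩ (Scheme.Hom.comp_apply _ _ _).symm]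
    exact (X.homOfLE hU₁ p).2
  have r2 : Set.range (Y.homOfLE hV₁ ≫ g' ≫ U.ι) ⊆ Set.range U₁.ι := by
    rw [Scheme.Opens.range_ι]
    rintro _ ⟨p, rfl⟩
    refine ⟨⟨_, hgV p⟩, ?_, rfl⟩
    change (f' ≫ V.ι) ⟨_, hgV p⟩ ∈ W'
    rw [back' (Y.homOfLE hV₁ p) ⟨_, hgV p⟩ (Scheme.Hom.comp_apply _ _ _).symm]
    exact (Y.homOfLE hV₁ p).2
  let φ := IsOpenImmersion.lift V₁.ι (X.homOfLE hU₁ ≫ f' ≫ V.ι) r1
  let ψ := IsOpenImmersion.lift U₁.ι (Y.homOfLE hV₁ ≫ g' ≫ U.ι) r2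
  have hφ : φ ≫ V₁.ι = X.homOfLE hU₁ ≫ f' ≫ V.ι := IsOpenImmersion.lift_fac _ _ _
  have hψ : ψ ≫ U₁.ι = Y.homOfLE hV₁ ≫ g' ≫ U.ι := IsOpenImmersion.lift_fac _ _ _
  have i1 : φ ≫ ψ = 𝟙 _ := by
    have h1 : φ ≫ Y.homOfLE (hV₁.trans hWV) = X.homOfLE hU₁ ≫ f' := by
      rw [← cancel_mono V.ι, Category.assoc, Category.assoc, Scheme.homOfLE_ι, hφ]
    rw [← cancel_mono U₁.ι, Category.assoc, hψ, hg', Category.id_comp,
      Scheme.homOfLE_homOfLE_assoc, ← Category.assoc, h1, Category.assoc, hfg, Scheme.homOfLE_ι]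
  have i2 : ψ ≫ φ = 𝟙 _ := by
    have h1 : ψ ≫ X.homOfLE (hU₁.trans hWU) = Y.homOfLE hV₁ ≫ g' := by
      rw [← cancel_mono U.ι, Category.assoc, Category.assoc, Scheme.homOfLE_ι, hψ]
    rw [← cancel_mono V₁.ι, Category.assoc, hφ, hf', Category.id_comp,
      Scheme.homOfLE_homOfLE_assoc, ← Category.assoc, h1, Category.assoc, hgf, Scheme.homOfLE_ι]
  have hxU₁ : x ∈ U₁ := by
    refine ⟨⟨x, hxW⟩, ?_, rfl⟩
    have h : (g' ≫ U.ι) ⟨y, hyW⟩ = x := by
      rw [hg', Scheme.Hom.comp_apply, show Y.homOfLE hWV ⟨y, hyW⟩ = (⟨y, hy⟩ : V) from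
        V.ι.isOpenEmbedding.injective (by rw [← Scheme.Hom.comp_apply, Scheme.homOfLE_ι]; rfl)]
      have h1 := congr($hg (IsLocalRing.closedPoint _))
      have h2 : V.fromSpecStalkOfMem y hy (IsLocalRing.closedPoint _) = ⟨y, hy⟩ := by
        apply V.ι.isOpenEmbedding.injective
        rw [← Scheme.Hom.comp_apply, Scheme.Opens.fromSpecStalkOfMem_ι,
          Scheme.fromSpecStalk_closedPoint]
        rfl
      rw [Scheme.Hom.comp_apply, h2, Scheme.Hom.comp_apply] at h1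
      rw [h1, show Spec.map e.hom (IsLocalRing.closedPoint _) = IsLocalRing.closedPoint _ from
        IsLocalRing.comap_closedPoint _, Scheme.fromSpecStalk_closedPoint]
    change (f' ≫ V.ι) ⟨x, hxW⟩ ∈ W'
    rw [back' ⟨y, hyW⟩ ⟨x, hxW⟩ h]
    exact hyW
  refine ⟨⟨U₁, U₁.isOpen.dense ⟨x, hxU₁⟩, V₁, V₁.isOpen.dense ?_, ⟨φ, ψ, i1, i2⟩⟩, ?_⟩
  · exact ⟨_, (φ ⟨x, hxU₁⟩).2⟩
  · change φ ≫ V₁.ι ≫ sY = U₁.ι ≫ sX
    rw [← Category.assoc, hφ, hf']
    simp [hfS]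

/-- Birational irreducible schemes have compatible isomorphic local rings at generic points. -/
theorem exists_iso_of_birationalOver [IrreducibleSpace X] [IrreducibleSpace Y] (sX : X ⟶ S)
    (sY : Y ⟶ S) (h : Scheme.BirationalOver sX sY) :
    ∃ (hs : sX (genericPoint ↥X) = sY (genericPoint ↥Y))
      (e : X.presheaf.stalk (genericPoint ↥X) ≅ Y.presheaf.stalk (genericPoint ↥Y)),
      sX.stalkMap (genericPoint ↥X) ≫ e.hom =
        eqToHom (congrArg S.presheaf.stalk hs) ≫ sY.stalkMap (genericPoint ↥Y) := by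
  obtain ⟨P, hP⟩ := h
  obtain ⟨x₀, hx₀⟩ := P.dense_source.nonempty
  have hξ : genericPoint ↥X ∈ P.source :=
    (genericPoint_specializes x₀).mem_open P.source.isOpen hx₀
  let p : P.source := ⟨genericPoint ↥X, hξ⟩
  let k : P.source.toScheme ⟶ Y := P.iso.hom ≫ P.target.ι
  have hk : k ≫ sY = P.source.ι ≫ sX := by
    rw [← hP, Category.assoc]
  have : IsDominant P.target.ι := Opens.isDominant_ι P.dense_target
  have : IsDominant k := inferInstanceAs (IsDominant (P.iso.hom ≫ P.target.ι))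
  have hη : k p = genericPoint ↥Y := by
    refine IsGenericPoint.eq ?_ (genericPoint_spec ↥Y)
    rw [IsGenericPoint, ← Set.univ_subset_iff]
    intro z _
    refine closure_minimal (t := closure {k p}) ?_ isClosed_closure (k.denseRange z)
    rintro _ ⟨q, rfl⟩
    refine specializes_iff_mem_closure.mp (Specializes.map ?_ k.continuous)
    rw [← P.source.ι.isOpenEmbedding.isInducing.specializes_iff]
    exact genericPoint_specializes _
  have hs : sX (genericPoint ↥X) = sY (genericPoint ↥Y) := by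
    rw [← hη, ← Scheme.Hom.comp_apply, hk, Scheme.Hom.comp_apply]
    rfl
  let e : X.presheaf.stalk (genericPoint ↥X) ≅ Y.presheaf.stalk (genericPoint ↥Y) :=
    asIso (P.source.ι.stalkMap p) ≪≫ (asIso (k.stalkMap p)).symm ≪≫
      eqToIso (congrArg Y.presheaf.stalk hη)
  refine ⟨hs, e, (stalk_compat_iff sX sY hs e.hom).mpr ?_⟩
  have h1 : Spec.map e.hom ≫ X.fromSpecStalk (genericPoint ↥X) =
      Spec.map (eqToHom (congrArg Y.presheaf.stalk hη)) ≫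
        Spec.map (inv (k.stalkMap p)) ≫ P.source.toScheme.fromSpecStalk p ≫ P.source.ι := by
    rw [← Scheme.SpecMap_stalkMap_fromSpecStalk]
    simp [e]
    rfl
  rw [← Category.assoc, h1]
  simp only [Category.assoc]
  rw [← hk, ← Category.assoc (P.source.toScheme.fromSpecStalk p) k,
    ← Scheme.SpecMap_stalkMap_fromSpecStalk, Category.assoc,
    ← Spec.map_comp_assoc (k.stalkMap p), IsIso.hom_inv_id, Spec.map_id, Category.id_comp,
    ← Category.assoc, specMap_eqToHom_fromSpecStalk _ hη]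

end GrothLib.SpreadLfp9
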