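import Mathlib.AlgebraicGeometry.SpreadingOut
import Mathlib.AlgebraicGeometry.Morphisms.FinitePresentation

/-!
# Spreading out from a local ring without germ injectivity
-/

set_option autoImplicit false
set_option backward.isDefEq.respectTransparency false

universe u

open CategoryTheory AlgebraicGeometry TopologicalSpace

namespace GrothLib.SpreadLfp9

variable {X Y S : Scheme.{u}}

theorem mem_finset_inf {ι : Type*} (s : Finset ι) (W : ι → X.Opens) (x : X) (h : ∀ i ∈ s, x ∈ W i) :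
    x ∈ s.inf W := by
  rw [← SetLike.mem_coe, TopologicalSpace.Opens.coe_finset_inf]
  simpa using h

theorem exists_lift_of_finitePresentation {R A : CommRingCat.{u}} {x : X} {U : X.Opens}
    (hxU : x ∈ U) (φ : A ⟶ X.presheaf.stalk x) (φRA : R ⟶ A) (φRX : R ⟶ Γ(X, U))
    (hφRA : RingHom.FinitePresentation φRA.hom)
    (e : φRA ≫ φ = φRX ≫ X.presheaf.germ U x hxU) :
    ∃ (V : X.Opens) (hxV : x ∈ V) (φ' : A ⟶ Γ(X, V)) (i : V ≤ U), IsAffineOpen V ∧
      φ = φ' ≫ X.presheaf.germ V x hxV ∧ φRX ≫ X.presheaf.map i.hom.op = φRA ≫ φ' := by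
  algebraize [φRA.hom]
  obtain ⟨n, π, hπ, t, ht⟩ := Algebra.FinitePresentation.out (R := R) (A := A)
  choose W hxW w hw using fun i : Fin n ↦ X.presheaf.exists_germ_eq (φ (π (MvPolynomial.X i)))
  let W₀ := Finset.univ.inf W ⊓ U
  have hx₀ : x ∈ W₀ := ⟨mem_finset_inf _ _ _ fun i _ ↦ hxW i, hxU⟩
  let ev : MvPolynomial (Fin n) R →+* Γ(X, W₀) := MvPolynomial.eval₂Hom
    (φRX ≫ X.presheaf.map (homOfLE (inf_le_right : W₀ ≤ U)).op).hom
    (fun i ↦ X.presheaf.map (homOfLE ((inf_le_left : W₀ ≤ _).trans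
      (Finset.inf_le (Finset.mem_univ i)))).op (w i))
  have hev : (X.presheaf.germ W₀ x hx₀).hom.comp ev = φ.hom.comp π.toRingHom := by
    refine MvPolynomial.ringHom_ext (fun r ↦ ?_) fun i ↦ ?_
    · simp only [ev, RingHom.comp_apply, MvPolynomial.eval₂Hom_C, AlgHom.toRingHom_eq_coe,
        RingHom.coe_coe, MvPolynomial.algHom_C]
      refine (X.presheaf.germ_res_apply _ _ _ _).trans ?_
      exact congr($e r).symm
    · simp only [ev, RingHom.comp_apply, MvPolynomial.eval₂Hom_X', AlgHom.toRingHom_eq_coe,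
        RingHom.coe_coe]
      exact (X.presheaf.germ_res_apply _ _ _ _).trans (hw i)
  have hzero : ∀ r : t, ∃ (V : X.Opens) (_ : x ∈ V) (i : V ≤ W₀),
      X.presheaf.map i.hom.op (ev r.1) = 0 := by
    intro r
    have h0 : π r.1 = 0 :=
      RingHom.mem_ker.mp (ht ▸ Ideal.subset_span r.2 : r.1 ∈ RingHom.ker π.toRingHom)
    have hg : X.presheaf.germ W₀ x hx₀ (ev r.1) = X.presheaf.germ W₀ x hx₀ 0 := by
      rw [map_zero]
      exact (congr($hev r.1)).trans (by simp [h0])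
    obtain ⟨V, hxV, iU, iV, hV⟩ := X.presheaf.germ_eq x hx₀ hx₀ _ _ hg
    refine ⟨V, hxV, iU.le, ?_⟩
    rw [map_zero] at hV
    exact hV
  choose V hxV iV hV using hzero
  obtain ⟨_, ⟨V₁, hV₁, rfl⟩, hxV₁, hsub⟩ := X.isBasis_affineOpens.exists_subset_of_mem_open
    (show x ∈ Finset.univ.inf V ⊓ W₀ from ⟨mem_finset_inf _ _ _ fun r _ ↦ hxV r, hx₀⟩)
    (Finset.univ.inf V ⊓ W₀).isOpen
  have hle : V₁ ≤ Finset.univ.inf V ⊓ W₀ := hsub
  let ev₁ : MvPolynomial (Fin n) R →+* Γ(X, V₁) :=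
    (X.presheaf.map (homOfLE (hle.trans inf_le_right)).op).hom.comp ev
  have hker : RingHom.ker π.toRingHom ≤ RingHom.ker ev₁ := by
    rw [← ht, Ideal.span_le]
    intro r hr
    rw [SetLike.mem_coe, RingHom.mem_ker]
    have h2 : V₁ ≤ V ⟨r, hr⟩ :=
      (hle.trans inf_le_left).trans (Finset.inf_le (Finset.mem_univ (⟨r, hr⟩ : t)))
    change X.presheaf.map (homOfLE (hle.trans inf_le_right)).op (ev r) = 0
    rw [← homOfLE_comp h2 (iV ⟨r, hr⟩), op_comp, Functor.map_comp, CommRingCat.comp_apply]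
    exact (congrArg _ (hV ⟨r, hr⟩)).trans (map_zero _)
  let φ' : A ⟶ Γ(X, V₁) :=
    CommRingCat.ofHom (RingHom.liftOfSurjective π.toRingHom hπ ⟨ev₁, hker⟩)
  have hφ' : ∀ p, φ' (π p) = ev₁ p := fun p ↦
    RingHom.liftOfRightInverse_comp_apply _ _ _ ⟨ev₁, hker⟩ p
  refine ⟨V₁, hxV₁, φ', (hle.trans inf_le_right).trans inf_le_right, hV₁, ?_, ?_⟩
  · ext a
    obtain ⟨p, rfl⟩ := hπ a
    rw [CommRingCat.comp_apply, hφ']
    exact (congr($hev p)).symm.trans (X.presheaf.germ_res_apply _ _ _ _).symm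
  · ext r
    have h1 : φ' (φRA r) = ev₁ (MvPolynomial.C r) := by
      rw [← hφ']
      congr 1
      exact (π.commutes r).symm
    rw [CommRingCat.comp_apply, CommRingCat.comp_apply, h1]
    simp only [ev₁, ev, RingHom.comp_apply, MvPolynomial.eval₂Hom_C, CommRingCat.hom_comp]
    exact ((congr($(X.presheaf.map_comp (homOfLE (inf_le_right : W₀ ≤ U)).op
      (homOfLE (hle.trans inf_le_right)).op) (φRX r))))

/-- An `S`-morphism out of a local ring of any scheme into a scheme locally of finite presentation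
over `S` spreads out. -/
theorem spread_out_lfp (sX : X ⟶ S) (sY : Y ⟶ S) [LocallyOfFinitePresentation sY] {x : X}
    (φ : Spec (X.presheaf.stalk x) ⟶ Y) (h : φ ≫ sY = X.fromSpecStalk x ≫ sX) :
    ∃ (U : X.Opens) (hxU : x ∈ U) (f : U.toScheme ⟶ Y),
      φ = U.fromSpecStalkOfMem x hxU ≫ f ∧ f ≫ sY = U.ι ≫ sX := by
  let y := φ (IsLocalRing.closedPoint _)
  have e : sX x = sY y := by
    rw [← Scheme.Hom.comp_apply, h, Scheme.Hom.comp_apply, Scheme.fromSpecStalk_closedPoint]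
  obtain ⟨_, ⟨U, hU, rfl⟩, hxU, -⟩ :=
    S.isBasis_affineOpens.exists_subset_of_mem_open (Set.mem_univ (sX x)) isOpen_univ
  have hyU : sY y ∈ U := e ▸ hxU
  obtain ⟨_, ⟨V : Y.Opens, hV, rfl⟩, hyV, iVU⟩ :=
    Y.isBasis_affineOpens.exists_subset_of_mem_open hyU (sY ⁻¹ᵁ U).2
  let ψ := Scheme.stalkClosedPointTo φ
  have hψ : sY.stalkMap y ≫ ψ =
      S.presheaf.stalkSpecializes (Inseparable.of_eq e).specializes ≫ sX.stalkMap x := by
    apply Spec.map_injective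
    rw [← cancel_mono (S.fromSpecStalk _)]
    simpa only [ψ, y, Spec.map_comp, Category.assoc, Scheme.SpecMap_stalkMap_fromSpecStalk,
      Scheme.Spec_stalkClosedPointTo_fromSpecStalk_assoc,
      Scheme.SpecMap_stalkSpecializes_fromSpecStalk]
  have : sY.appLE U V iVU ≫ Y.presheaf.germ V y hyV ≫ ψ =
      sX.app U ≫ X.presheaf.germ (sX ⁻¹ᵁ U) x hxU := by
    rw [Scheme.Hom.appLE, Category.assoc, Y.presheaf.germ_res_assoc,
      ← Scheme.Hom.germ_stalkMap_assoc, hψ]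
    simp
  obtain ⟨W, hxW, φ', i, hW, h₁, h₂⟩ :=
    exists_lift_of_finitePresentation (R := Γ(S, U)) (A := Γ(Y, V)) (U := sX ⁻¹ᵁ U) (x := x) hxU
    (Y.presheaf.germ _ y hyV ≫ ψ) (sY.appLE U V iVU) (sX.app U)
    (sY.finitePresentation_appLE hU hV _) this
  refine ⟨W, hxW, W.toSpecΓ ≫ Spec.map φ' ≫ hV.fromSpec, ?_, ?_⟩
  · rw [W.fromSpecStalkOfMem_toSpecΓ_assoc x hxW, ← Spec.map_comp_assoc, ← h₁,
      Spec.map_comp, Category.assoc, ← IsAffineOpen.fromSpecStalk,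
      IsAffineOpen.fromSpecStalk_eq_fromSpecStalk]
    exact (Scheme.Spec_stalkClosedPointTo_fromSpecStalk φ).symm
  · simp only [Category.assoc]
    rw [← IsAffineOpen.SpecMap_appLE_fromSpec sY hU hV iVU, ← Spec.map_comp_assoc, ← h₂,
      ← Scheme.Hom.appLE, ← hW.isoSpec_hom, IsAffineOpen.SpecMap_appLE_fromSpec sX hU hW i,
      ← Iso.eq_inv_comp, IsAffineOpen.isoSpec_inv_ι_assoc]

/-- Two `S`-morphisms into a scheme locally of finite type over `S` that agree on a local ring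
agree near the point. -/
theorem spread_out_unique (sY : Y ⟶ S) [LocallyOfFiniteType sY] (f g : X ⟶ Y) {x : X}
    (hfg : f ≫ sY = g ≫ sY) (e : X.fromSpecStalk x ≫ f = X.fromSpecStalk x ≫ g) :
    ∃ U : X.Opens, x ∈ U ∧ U.ι ≫ f = U.ι ≫ g := by
  have exy : f x = g x := by simpa using congr($e (IsLocalRing.closedPoint _))
  have H : f.stalkMap x =
      Y.presheaf.stalkSpecializes (Inseparable.of_eq exy.symm).specializes ≫ g.stalkMap x := by
    apply Spec.map_injective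
    rw [← cancel_mono (Y.fromSpecStalk _)]
    simpa [Scheme.SpecMap_stalkSpecializes_fromSpecStalk] using e
  obtain ⟨_, ⟨U, hU, rfl⟩, hyU, -⟩ :=
    S.isBasis_affineOpens.exists_subset_of_mem_open (Set.mem_univ (sY (f x))) isOpen_univ
  obtain ⟨_, ⟨V : Y.Opens, hV, rfl⟩, hxV, iVU⟩ :=
    Y.isBasis_affineOpens.exists_subset_of_mem_open hyU (sY ⁻¹ᵁ U).2
  let W₀ := f ⁻¹ᵁ V ⊓ g ⁻¹ᵁ V
  have hx₀ : x ∈ W₀ := ⟨hxV, (show g x ∈ V from exy ▸ hxV)⟩
  let a := f.appLE V W₀ inf_le_left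
  let b := g.appLE V W₀ inf_le_right
  have hab : a ≫ X.presheaf.germ W₀ x hx₀ = b ≫ X.presheaf.germ W₀ x hx₀ := by
    simp only [a, b, Scheme.Hom.appLE, Category.assoc, X.presheaf.germ_res',
      ← Scheme.Hom.germ_stalkMap, H]
    simp only [TopCat.Presheaf.germ_stalkSpecializes_assoc, Scheme.Hom.germ_stalkMap]
  have hR : sY.appLE U V iVU ≫ a = sY.appLE U V iVU ≫ b := by
    simp only [a, b, Scheme.Hom.appLE_comp_appLE]
    congr 1
  have hfin := sY.finiteType_appLE hU hV iVU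
  algebraize [(sY.appLE U V iVU).hom]
  obtain ⟨s, hs⟩ := Algebra.FiniteType.out (R := Γ(S, U)) (A := Γ(Y, V))
  have hloc : ∀ r : s, ∃ (W : X.Opens) (_ : x ∈ W) (i : W ≤ W₀),
      X.presheaf.map i.hom.op (a r.1) = X.presheaf.map i.hom.op (b r.1) := by
    intro r
    obtain ⟨W, hxW, iU, iV, hW⟩ := X.presheaf.germ_eq x hx₀ hx₀ (a r.1) (b r.1)
      (congrArg (fun φ : Γ(Y, V) ⟶ X.presheaf.stalk x ↦ φ r.1) hab)
    exact ⟨W, hxW, iU.le, hW⟩
  choose W hxW iW hW using hloc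
  obtain ⟨_, ⟨V₁, hV₁, rfl⟩, hxV₁, hsub⟩ := X.isBasis_affineOpens.exists_subset_of_mem_open
    (show x ∈ Finset.univ.inf W ⊓ W₀ from ⟨mem_finset_inf _ _ _ fun r _ ↦ hxW r, hx₀⟩)
    (Finset.univ.inf W ⊓ W₀).isOpen
  have hle : V₁ ≤ Finset.univ.inf W ⊓ W₀ := hsub
  let res := X.presheaf.map (homOfLE (hle.trans inf_le_right)).op
  have hR' : sY.appLE U V iVU ≫ a ≫ res = sY.appLE U V iVU ≫ b ≫ res := by
    rw [← Category.assoc, hR, Category.assoc]
  have key : a ≫ res = b ≫ res := by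
    let := (sY.appLE U V iVU ≫ b ≫ res).hom.toAlgebra
    let α : Γ(Y, V) →ₐ[Γ(S, U)] Γ(X, V₁) :=
      { (a ≫ res).hom with commutes' := fun r ↦ congr($hR' r) }
    let β : Γ(Y, V) →ₐ[Γ(S, U)] Γ(X, V₁) := { (b ≫ res).hom with commutes' := fun r ↦ rfl }
    have : α = β := by
      refine AlgHom.ext_of_adjoin_eq_top hs fun r hr ↦ ?_
      change res (a r) = res (b r)
      have h2 : V₁ ≤ W ⟨r, hr⟩ :=
        (hle.trans inf_le_left).trans (Finset.inf_le (Finset.mem_univ (⟨r, hr⟩ : s)))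
      simp only [res, ← homOfLE_comp h2 (iW ⟨r, hr⟩), op_comp, Functor.map_comp,
        CommRingCat.comp_apply]
      exact congrArg _ (hW ⟨r, hr⟩)
    ext r
    exact DFunLike.congr_fun this r
  simp only [a, b, res, Scheme.Hom.appLE_map] at key
  refine ⟨V₁, hxV₁, ?_⟩
  rw [← cancel_epi hV₁.isoSpec.inv, ← Category.assoc, ← Category.assoc,
    IsAffineOpen.isoSpec_inv_ι, ← IsAffineOpen.SpecMap_appLE_fromSpec f hV hV₁
      ((hle.trans inf_le_right).trans inf_le_left), key,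
    IsAffineOpen.SpecMap_appLE_fromSpec g hV hV₁ _]

end GrothLib.SpreadLfp9
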