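import Groth.Agent.Lib.SpreadLfp9.Birational
import Groth.Agent.Lib.MorQ9.Generic
import Groth.Agent.Lib.GrpdQuot.InvariantOpen
import Mathlib.AlgebraicGeometry.Morphisms.ClosedImmersion
import Mathlib.AlgebraicGeometry.Morphisms.Separated

/-!
# Birational morphisms are isomorphisms over dense opens
-/

set_option autoImplicit false
set_option backward.isDefEq.respectTransparency false

universe u

open CategoryTheory AlgebraicGeometry

namespace GrothLib.SpreadLfp9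

variable {X Y : Scheme.{u}}

theorem exists_generic (x : X) :
    ∃ ξ : X, closure {ξ} ∈ irreducibleComponents (X : Type u) ∧ ξ ⤳ x := by
  obtain ⟨Z, hZ, hsub⟩ := exists_mem_irreducibleComponents_subset_of_isIrreducible _
    (isIrreducible_singleton (x := x))
  have hirr : IsIrreducible Z := hZ.1
  have hc : closure {hirr.genericPoint} = Z := hirr.isGenericPoint_genericPoint
    (isClosed_of_mem_irreducibleComponents Z hZ)
  exact ⟨hirr.genericPoint, by rw [hc]; exact hZ,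
    specializes_iff_mem_closure.mpr (by rw [hc]; exact hsub rfl)⟩

/-- With finitely many components, each generic point has an open neighbourhood consisting of
points generalized by no other generic point. -/
theorem exists_component_nhd (hfin : (irreducibleComponents (X : Type u)).Finite) (ξ : X)
    (hξ : closure {ξ} ∈ irreducibleComponents (X : Type u)) :
    ∃ O : X.Opens, ξ ∈ O ∧ ∀ p ∈ O, ∀ η : X,
      closure {η} ∈ irreducibleComponents (X : Type u) → η ⤳ p → η = ξ := by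
  let C : Set X := ⋃ Z ∈ {Z ∈ irreducibleComponents (X : Type u) | Z ≠ closure {ξ}}, Z
  have hC : IsClosed C := (hfin.subset fun Z h => h.1).isClosed_biUnion fun Z h =>
    isClosed_of_mem_irreducibleComponents Z h.1
  refine ⟨⟨Cᶜ, hC.isOpen_compl⟩, ?_, fun p hp η hη hs ↦ ?_⟩
  · intro h
    simp only [C, Set.mem_iUnion₂] at h
    obtain ⟨Z, ⟨hZ, hne⟩, hmem⟩ := h
    have hsub : closure {ξ} ⊆ Z := closure_minimal (Set.singleton_subset_iff.mpr hmem)
      (isClosed_of_mem_irreducibleComponents Z hZ)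
    exact hne (Set.Subset.antisymm (hξ.2 hZ.1 hsub) hsub)
  · by_contra hne
    refine hp ?_
    simp only [C, Set.mem_iUnion₂]
    refine ⟨closure {η}, ⟨hη, fun h ↦ hne ?_⟩, specializes_iff_mem_closure.mp hs⟩
    exact (Specializes.antisymm (specializes_iff_closure_subset.mpr h.ge)
      (specializes_iff_closure_subset.mpr h.le)).eq

theorem generic_mem_of_dense (hfin : (irreducibleComponents (X : Type u)).Finite) {U : X.Opens}
    (hU : Dense (U : Set X)) {ξ : X} (hξ : closure {ξ} ∈ irreducibleComponents (X : Type u)) :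
    ξ ∈ U := by
  obtain ⟨O, hξO, hO⟩ := exists_component_nhd hfin ξ hξ
  obtain ⟨p, hpO, hpU⟩ := hU.inter_open_nonempty _ O.isOpen ⟨ξ, hξO⟩
  obtain ⟨η, hη, hs⟩ := exists_generic p
  exact hO p hpO η hη hs ▸ hs.mem_open U.isOpen hpU

theorem dense_of_generic_mem {U : X.Opens}
    (hU : ∀ ξ : X, closure {ξ} ∈ irreducibleComponents (X : Type u) → ξ ∈ U) :
    Dense (U : Set X) := fun x ↦ by
  obtain ⟨ξ, hξ, hs⟩ := exists_generic x
  exact closure_mono (Set.singleton_subset_iff.mpr (hU ξ hξ)) (specializes_iff_mem_closure.mp hs)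

/-- A morphism inducing an isomorphism of local rings at `x` is an open immersion near `x`, if
the inverse map of local rings spreads out. -/
theorem exists_nhd_isOpenImmersion (f : X ⟶ Y) [LocallyOfFiniteType f] {x : X} {y : Y} (hxy : f x = y)
    [IsIso (f.stalkMap x)]
    (hspread : ∀ φ : Spec (Y.presheaf.stalk y) ⟶ X, φ ≫ f = Y.fromSpecStalk y ≫ 𝟙 Y →
      ∃ (V : Y.Opens) (hy : y ∈ V) (g : V.toScheme ⟶ X),
        φ = V.fromSpecStalkOfMem y hy ≫ g ∧ g ≫ f = V.ι ≫ 𝟙 Y)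
    (U₀ : X.Opens) (hx : x ∈ U₀) (V₀ : Y.Opens) (hy : y ∈ V₀) :
    ∃ W : X.Opens, x ∈ W ∧ W ≤ U₀ ∧ W ≤ f ⁻¹ᵁ V₀ ∧ IsOpenImmersion (W.ι ≫ f) := by
  subst hxy
  let e : X.presheaf.stalk x ≅ Y.presheaf.stalk (f x) := (asIso (f.stalkMap x)).symm
  obtain ⟨V, hyV, g, hg, hgS⟩ := hspread (Spec.map e.hom ≫ X.fromSpecStalk x) (by
    rw [Category.assoc, ← Scheme.SpecMap_stalkMap_fromSpecStalk, ← Spec.map_comp_assoc]
    simp [e])
  have hf : (⊤ : X.Opens).fromSpecStalkOfMem x trivial ≫ (⊤ : X.Opens).ι ≫ f =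
      Spec.map e.inv ≫ Y.fromSpecStalk (f x) := by
    rw [Scheme.Opens.fromSpecStalkOfMem_ι_assoc, ← Scheme.SpecMap_stalkMap_fromSpecStalk]
    rfl
  obtain ⟨W, hWU, f', hxW, hf', hfg⟩ := exists_shrink f (𝟙 Y) (U := ⊤) trivial hyV e
    ((⊤ : X.Opens).ι ≫ f) g hf hg.symm (Category.comp_id _) hgS
  rw [Scheme.homOfLE_ι_assoc] at hf'
  rw [Category.comp_id] at hgS
  have hr : Set.range f' ⊆ Set.range (g ⁻¹ᵁ W).ι := by
    rw [Scheme.Opens.range_ι]
    rintro _ ⟨p, rfl⟩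
    change g (f' p) ∈ W
    rw [← Scheme.Hom.comp_apply, hfg]
    exact p.2
  have hr' : Set.range ((g ⁻¹ᵁ W).ι ≫ g) ⊆ Set.range W.ι := by
    rw [Scheme.Opens.range_ι]
    rintro _ ⟨q, rfl⟩
    exact q.2
  let φ := IsOpenImmersion.lift (g ⁻¹ᵁ W).ι f' hr
  let ψ := IsOpenImmersion.lift W.ι ((g ⁻¹ᵁ W).ι ≫ g) hr'
  have hφ : φ ≫ (g ⁻¹ᵁ W).ι = f' := IsOpenImmersion.lift_fac _ _ _
  have hψ : ψ ≫ W.ι = (g ⁻¹ᵁ W).ι ≫ g := IsOpenImmersion.lift_fac _ _ _
  have : IsIso φ := by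
    refine ⟨ψ, ?_, ?_⟩
    · rw [← cancel_mono W.ι, Category.assoc, hψ, ← Category.assoc, hφ, hfg, Category.id_comp]
    · rw [← cancel_mono (g ⁻¹ᵁ W).ι, Category.assoc, hφ, ← cancel_mono V.ι, Category.assoc, hf',
        ← Category.assoc, hψ, Category.assoc, hgS, Category.id_comp]
  have himm : IsOpenImmersion (W.ι ≫ f) := by
    rw [← hf', ← hφ]
    infer_instance
  refine ⟨W ⊓ (U₀ ⊓ f ⁻¹ᵁ V₀), ⟨hxW, hx, hy⟩, inf_le_right.trans inf_le_left,
    inf_le_right.trans inf_le_right, ?_⟩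
  rw [← X.homOfLE_ι (inf_le_left : W ⊓ (U₀ ⊓ f ⁻¹ᵁ V₀) ≤ W), Category.assoc]
  infer_instance

/-- Local isomorphisms at all generic points glue to an isomorphism of dense opens. -/
theorem exists_dense_isIso_resLE (f : X ⟶ Y) [LocallyOfFiniteType f]
    (hXfin : (irreducibleComponents (X : Type u)).Finite)
    (hYfin : (irreducibleComponents (Y : Type u)).Finite)
    (hbij : Set.BijOn (fun x : X => f.base x) {x : X | closure {x} ∈ irreducibleComponents ↥X}
      {y : Y | closure {y} ∈ irreducibleComponents ↥Y})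
    (hiso : ∀ x : X, closure {x} ∈ irreducibleComponents ↥X → IsIso (f.stalkMap x))
    (hspread : ∀ (y : Y) (φ : Spec (Y.presheaf.stalk y) ⟶ X), φ ≫ f = Y.fromSpecStalk y ≫ 𝟙 Y →
      ∃ (V : Y.Opens) (hy : y ∈ V) (g : V.toScheme ⟶ X),
        φ = V.fromSpecStalkOfMem y hy ≫ g ∧ g ≫ f = V.ι ≫ 𝟙 Y) :
    ∃ (U : X.Opens) (V : Y.Opens) (hUV : U ≤ f ⁻¹ᵁ V), Dense (U : Set X) ∧ Dense (V : Set Y) ∧
      IsIso (f.resLE V U hUV) := by
  let G := {x : X | closure {x} ∈ irreducibleComponents ↥X}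
  choose O hO hO' using fun x : G ↦ exists_component_nhd hXfin x.1 x.2
  choose P hP hP' using fun x : G ↦ exists_component_nhd hYfin (f x.1) (hbij.1 x.2)
  choose W hxW hWO hWP hW using fun x : G ↦
    have := hiso x.1 x.2
    exists_nhd_isOpenImmersion f rfl (hspread _) (O x) (hO x) (P x) (hP x)
  let U : X.Opens := ⨆ x : G, W x
  have hU : ∀ p : U, ∃ x : G, p.1 ∈ W x := fun p ↦ TopologicalSpace.Opens.mem_iSup.mp p.2
  have hsep : ∀ (a b : G) (p q : X), p ∈ W a → q ∈ W b → f p = f q → a = b := by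
    intro a b p q hp hq h
    obtain ⟨η, hη, hs⟩ := exists_generic (f p)
    have h1 := hP' a (f p) (hWP a hp) η hη hs
    have h2 := hP' b (f p) (h ▸ hWP b hq) η hη hs
    exact Subtype.ext (hbij.2.1 a.2 b.2 (h1.symm.trans h2))
  have hst : ∀ (x : G) (p : W x), IsIso (f.stalkMap p.1) := by
    intro x p
    have := hW x
    have h2 : IsIso (((W x).ι ≫ f).stalkMap p) := inferInstance
    rw [Scheme.Hom.stalkMap_comp] at h2
    exact @IsIso.of_isIso_comp_right _ _ _ _ _ (f.stalkMap ((W x).ι p)) ((W x).ι.stalkMap p) _ h2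
  have himm : IsOpenImmersion (U.ι ≫ f) := by
    rw [IsOpenImmersion.iff_isIso_stalkMap]
    refine ⟨.of_continuous_injective_isOpenMap (U.ι ≫ f).continuous ?_ ?_, fun p ↦ ?_⟩
    · intro p q h
      rw [Scheme.Hom.comp_apply, Scheme.Hom.comp_apply] at h
      obtain ⟨a, ha⟩ := hU p
      obtain ⟨b, hb⟩ := hU q
      obtain rfl := hsep a b p.1 q.1 ha hb h
      have := hW a
      have := ((W a).ι ≫ f).isOpenEmbedding.injective
        (a₁ := (⟨p.1, ha⟩ : W a)) (a₂ := (⟨q.1, hb⟩ : W a)) h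
      have h1 : p.1 = q.1 := congrArg (fun z : W a ↦ z.1) this
      exact Subtype.ext h1
    · intro S hS
      have key : (U.ι ≫ f) '' S =
          ⋃ x : G, ((W x).ι ≫ f) '' (X.homOfLE (le_iSup W x : W x ≤ U) ⁻¹' S) := by
        ext q
        simp only [Set.mem_image, Set.mem_iUnion, Set.mem_preimage]
        constructor
        · rintro ⟨p, hp, rfl⟩
          obtain ⟨x, hx⟩ := hU p
          refine ⟨x, ⟨p.1, hx⟩, ?_, rfl⟩
          convert hp
          apply U.ι.isOpenEmbedding.injective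
          rw [← Scheme.Hom.comp_apply, Scheme.homOfLE_ι]
          rfl
        · rintro ⟨x, p, hp, rfl⟩
          exact ⟨_, hp, by rw [← Scheme.Hom.comp_apply, Scheme.homOfLE_ι_assoc]⟩
      rw [key]
      exact isOpen_iUnion fun x ↦
        have := hW x
        ((W x).ι ≫ f).isOpenEmbedding.isOpenMap _
          (hS.preimage (X.homOfLE (le_iSup W x : W x ≤ U)).continuous)
    · rw [Scheme.Hom.stalkMap_comp]
      obtain ⟨x, hx⟩ := hU p
      have : IsIso (f.stalkMap (U.ι p)) := hst x ⟨p.1, hx⟩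
      infer_instance
  have hUV : U ≤ f ⁻¹ᵁ (U.ι ≫ f).opensRange := fun p hp ↦ ⟨⟨p, hp⟩, rfl⟩
  refine ⟨U, (U.ι ≫ f).opensRange, hUV, dense_of_generic_mem fun ξ hξ ↦
    TopologicalSpace.Opens.mem_iSup.mpr ⟨⟨ξ, hξ⟩, hxW _⟩, dense_of_generic_mem fun η hη ↦ ?_, ?_⟩
  · obtain ⟨ξ, hξ, rfl⟩ := hbij.2.2 hη
    exact hUV (TopologicalSpace.Opens.mem_iSup.mpr ⟨⟨ξ, hξ⟩, hxW _⟩)
  · have h1 : IsOpenImmersion (f.resLE (U.ι ≫ f).opensRange U hUV) := by
      have : IsOpenImmersion (f.resLE _ U hUV ≫ (U.ι ≫ f).opensRange.ι) := by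
        rw [Scheme.Hom.resLE_comp_ι]; infer_instance
      exact IsOpenImmersion.of_comp _ (U.ι ≫ f).opensRange.ι
    rw [isIso_iff_isOpenImmersion_and_surjective]
    refine ⟨h1, ⟨?_⟩⟩
    rintro ⟨_, p, rfl⟩
    refine ⟨p, Subtype.ext ?_⟩
    change (f.resLE _ U hUV ≫ (U.ι ≫ f).opensRange.ι) p = _
    rw [Scheme.Hom.resLE_comp_ι]

theorem exists_dense_isIso_restrict (f : X ⟶ Y) (U : X.Opens) (V : Y.Opens) (hUV : U ≤ f ⁻¹ᵁ V)
    (hXfin : (irreducibleComponents (X : Type u)).Finite)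
    (hYfin : (irreducibleComponents (Y : Type u)).Finite)
    (hbij : Set.BijOn (fun x : X => f.base x) {x : X | closure {x} ∈ irreducibleComponents ↥X}
      {y : Y | closure {y} ∈ irreducibleComponents ↥Y})
    (hfib : ∀ (ξ x : X), closure {ξ} ∈ irreducibleComponents ↥X → f x = f ξ → x = ξ)
    (hU : Dense (U : Set X)) (hV : Dense (V : Set Y)) (hiso : IsIso (f.resLE V U hUV))
    (hf : QuasiCompact f ∨ IsSeparated f) :
    ∃ W : Y.Opens, Dense (W : Set Y) ∧ IsIso (f ∣_ W) := by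
  rcases hf with hf | hf
  · let C : Set Y := closure (f '' (U : Set X)ᶜ)
    let W : Y.Opens := ⟨Cᶜ, isClosed_closure.isOpen_compl⟩
    refine ⟨V ⊓ W, dense_of_generic_mem fun η hη ↦ ⟨generic_mem_of_dense hYfin hV hη, fun h ↦ ?_⟩, ?_⟩
    · obtain ⟨z, hz, hzη⟩ := GrpdQuot.exists_specializes_of_mem_closure f _
        U.isOpen.isClosed_compl η h
      obtain ⟨ξ, hξ, rfl⟩ := hbij.2.2 hη
      have : f z = f ξ := MorQ9.eq_of_specializes_generic hη hzη
      exact hz (hfib ξ z hξ this ▸ generic_mem_of_dense hXfin hU hξ)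
    · have hle : f ⁻¹ᵁ (V ⊓ W) ≤ U := by
        intro p hp
        by_contra hpU
        exact hp.2 (subset_closure ⟨p, hpU, rfl⟩)
      have h2 : f.resLE V U hUV ⁻¹ᵁ (V.ι ⁻¹ᵁ (V ⊓ W)) = U.ι ⁻¹ᵁ (f ⁻¹ᵁ (V ⊓ W)) := by
        rw [← Scheme.Hom.comp_preimage, Scheme.Hom.resLE_comp_ι, Scheme.Hom.comp_preimage]
      have h3 : IsOpenImmersion ((f ⁻¹ᵁ (V ⊓ W)).ι ≫ f) := by
        rw [← X.homOfLE_ι hle, Category.assoc, ← Scheme.Hom.resLE_comp_ι f hUV]
        infer_instance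
      have : IsOpenImmersion (f ∣_ (V ⊓ W)) := by
        rw [← morphismRestrict_ι] at h3
        exact IsOpenImmersion.of_comp _ (V ⊓ W).ι
      rw [isIso_iff_isOpenImmersion_and_surjective]
      refine ⟨this, ⟨fun q ↦ ?_⟩⟩
      obtain ⟨p, hp⟩ := (f.resLE V U hUV).surjective ⟨q.1, q.2.1⟩
      have hfp : f p.1 = q.1 := by
        have := congrArg Subtype.val hp
        rw [← this]
        change (U.ι ≫ f) p = (f.resLE V U hUV ≫ V.ι) p
        rw [Scheme.Hom.resLE_comp_ι]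
      refine ⟨⟨p.1, show f p.1 ∈ V ⊓ W from hfp ▸ q.2⟩, Subtype.ext ?_⟩
      change ((f ∣_ (V ⊓ W)) ≫ (V ⊓ W).ι) _ = _
      rw [morphismRestrict_ι]
      exact hfp
  · refine ⟨V, hV, ?_⟩
    have hle : f ⁻¹ᵁ V ≤ U := by
      have : IsClosedImmersion (X.homOfLE hUV ≫ f ∣_ V) := inferInstanceAs
        (IsClosedImmersion (f.resLE V U hUV))
      have : IsClosedImmersion (X.homOfLE hUV) := IsClosedImmersion.of_comp _ (f ∣_ V)
      intro p hp
      obtain ⟨ξ, hξ, hs⟩ := exists_generic p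
      have hξV : ξ ∈ f ⁻¹ᵁ V := hs.mem_open (f ⁻¹ᵁ V).isOpen hp
      have hs' : (⟨ξ, hξV⟩ : (f ⁻¹ᵁ V : X.Opens)) ⤳ ⟨p, hp⟩ := subtype_specializes_iff _ _ |>.mpr hs
      obtain ⟨u, hu⟩ := hs'.mem_closed (X.homOfLE hUV).isClosedEmbedding.isClosed_range
        ⟨⟨ξ, generic_mem_of_dense hXfin hU hξ⟩, by
          apply (f ⁻¹ᵁ V).ι.isOpenEmbedding.injective
          rw [← Scheme.Hom.comp_apply, Scheme.homOfLE_ι]
          rfl⟩
      have := congrArg (f ⁻¹ᵁ V).ι hu
      rw [← Scheme.Hom.comp_apply, Scheme.homOfLE_ι] at this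
      exact (show U.ι u = p from this) ▸ u.2
    have : IsIso (X.homOfLE hUV) := by
      obtain rfl : U = f ⁻¹ᵁ V := le_antisymm hUV hle
      simp only [Scheme.homOfLE_rfl]; infer_instance
    have : IsIso (X.homOfLE hUV ≫ f ∣_ V) := inferInstanceAs (IsIso (f.resLE V U hUV))
    exact IsIso.of_isIso_comp_left (X.homOfLE hUV) _

theorem eq_generic_of_map_eq (f : X ⟶ Y)
    (hbij : Set.BijOn (fun x : X => f.base x) {x : X | closure {x} ∈ irreducibleComponents ↥X}
      {y : Y | closure {y} ∈ irreducibleComponents ↥Y})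
    (hiso : ∀ x : X, closure {x} ∈ irreducibleComponents ↥X → IsIso (f.stalkMap x))
    (x₀ x : X) (hx₀ : closure {x₀} ∈ irreducibleComponents ↥X) (hx : f x = f x₀) : x = x₀ := by
  have hy := hbij.1 hx₀
  obtain ⟨η, hη, hs⟩ := exists_generic x
  have hg : η = x₀ :=
    hbij.2.1 hη hx₀ (MorQ9.eq_of_specializes_generic hy
      (show f η ⤳ f x₀ from hx ▸ hs.map f.continuous))
  rw [hg] at hs
  have := hiso x₀ hx₀
  let T := X.presheaf.stalkSpecializes hs
  let s : X.presheaf.stalk x₀ ⟶ X.presheaf.stalk x := inv (f.stalkMap x₀) ≫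
    Y.presheaf.stalkSpecializes (show f x ⤳ f x₀ by rw [hx]) ≫ f.stalkMap x
  have hsT : s ≫ T = 𝟙 _ := by
    have h1 : Y.presheaf.stalkSpecializes (hs.map f.continuous) ≫ f.stalkMap x₀ =
        f.stalkMap x ≫ T := Scheme.Hom.stalkSpecializes_stalkMap f _ _ hs
    simp only [s, Category.assoc, ← h1]
    rw [← Category.assoc (Y.presheaf.stalkSpecializes _), TopCat.Presheaf.stalkSpecializes_comp,
      TopCat.Presheaf.stalkSpecializes_refl, Category.id_comp, IsIso.inv_hom_id]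
  have hloc : IsLocalHom T.hom := by
    refine ⟨fun a ha ↦ ?_⟩
    have hu : IsUnit (s (T a)) := ha.map s.hom
    by_contra hna
    have hm : s (T a) - a ∉ IsLocalRing.maximalIdeal _ := fun h ↦
      hna ((IsLocalRing.notMem_maximalIdeal).mp fun h' ↦
        (IsLocalRing.notMem_maximalIdeal.mpr hu) (by simpa using add_mem h h'))
    rw [IsLocalRing.notMem_maximalIdeal] at hm
    have h0 : T (s (T a) - a) = 0 := by
      rw [map_sub, ← CommRingCat.comp_apply s T, hsT]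
      simp
    exact not_isUnit_zero (h0 ▸ hm.map T.hom)
  have : X.fromSpecStalk x (Spec.map T (IsLocalRing.closedPoint _)) = x₀ := by
    rw [← Scheme.Hom.comp_apply, Scheme.SpecMap_stalkSpecializes_fromSpecStalk,
      Scheme.fromSpecStalk_closedPoint]
  rwa [show Spec.map T (IsLocalRing.closedPoint _) = IsLocalRing.closedPoint _ from
    @IsLocalRing.comap_closedPoint _ _ _ _ _ _ T.hom hloc,
    Scheme.fromSpecStalk_closedPoint] at this

theorem exists_spread (f : X ⟶ Y) (hYfin : (irreducibleComponents (Y : Type u)).Finite)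
    (hf : (LocallyOfFiniteType f ∧ IsReduced Y) ∨ LocallyOfFinitePresentation f)
    (y : Y) (φ : Spec (Y.presheaf.stalk y) ⟶ X) (hφ : φ ≫ f = Y.fromSpecStalk y ≫ 𝟙 Y) :
    ∃ (V : Y.Opens) (hy : y ∈ V) (g : V.toScheme ⟶ X),
      φ = V.fromSpecStalkOfMem y hy ≫ g ∧ g ≫ f = V.ι ≫ 𝟙 Y := by
  rcases hf with ⟨hft, hred⟩ | hfp
  · have := MorQ9.isGermInjectiveAt hYfin y
    exact spread_out_of_isGermInjective' (𝟙 Y) f φ hφ
  · exact spread_out_lfp (𝟙 Y) f φ hφ

end GrothLib.SpreadLfp9
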